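import Cfsg.Agent.GAL.TO.Lin
import Cfsg.Agent.GAL.Odd.Gen

/-!
# GAL, odd `q`: `FG` for the orthogonal groups (helper52)

**`fg_podd`**, **`fg_plus`**, **`fg_minus`**.
-/

set_option autoImplicit false
set_option linter.unusedSectionVars false

namespace Cfsg.Agent.GAL.TO

open Cfsg Cfsg.Agent.ChevalleyStructure.CoxeterGeom Cfsg.Agent.Tits.Roots Cfsg.Agent.Nodes.Reps Cfsg.Agent.Nodes
  Cfsg.Agent.Nodes.BNOf Cfsg.Agent.H684.OQ Cfsg.Agent.H381.OQ Cfsg.Agent.H69.OQ Cfsg.Agent.ODD.PS Cfsg.Agent.ODD.PW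
  Cfsg.Agent.GAL.Odd
open Cfsg.Agent.TitsThree Cfsg.Agent.TitsThree.Siegel Cfsg.Agent.TitsThree.WittFrame Cfsg.Agent.TitsThree.WittWeyl
  Cfsg.Agent.TitsThree.FrameCN
open Cfsg.Agent.Nodes.WittRoot (Amb Mono)
open Cfsg.Agent.Nodes.WittRGD (Tor)
open Cfsg.Agent.Nodes.TypeC (ng)

theorem exists_desc {G K : Type} [Group G] [Group K] [Finite K] (φ : G →* K) (hφ : Function.Surjective φ) (c : G →* G)
    (hc : Function.Surjective c) (h : ∀ g, φ g = 1 → φ (c g) = 1) : ∃ d : K ≃* K, ∀ g, d (φ g) = φ (c g) := by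
  have h1 := φ.liftOfRightInverse_comp_apply _ (Function.rightInverse_surjInv hφ) ⟨φ.comp c, h⟩
  exact ⟨MulEquiv.ofBijective (φ.liftOfRightInverse _ (Function.rightInverse_surjInv hφ) ⟨φ.comp c, h⟩) (Finite.surjective_iff_bijective.1 fun k => by
    obtain ⟨g, rfl⟩ := (hφ.comp hc) k
    exact ⟨φ g, h1 g⟩), h1⟩

/-- the exponents of `ρ^∨` -/
def ex {n : ℕ} (c : ℤ) (z : Fin n × Bool) : ℤ := if z.2 then c - z.1 else -(c - z.1)

theorem od_ex {n : ℕ} (c : ℤ) : Od (ex (n := n) c) := by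
  rintro ⟨i, s⟩
  cases s <;> simp [ex, ng]

theorem even_ex {n : ℕ} (c : ℤ) (h : 4 ∣ n) : Even (∑ i : Fin n, ex c (i, true)) := by
  obtain ⟨k, rfl⟩ := h
  simp only [ex, if_true]
  rw [Fin.sum_univ_eq_sum_range fun i => c - (i : ℤ)]
  induction k with
  | zero => simp
  | succ k ih =>
    simp only [Nat.mul_succ, Finset.sum_range_succ, Int.even_iff] at ih ⊢
    omega

variable {F : Type} [Field F] {V : Type} [AddCommGroup V] [Module F V] {H : HForm F V}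

section Conj

variable {n : ℕ} {Fr : WittFrame.Frame H (Fin n)} {D : V ≃ₗ[F] V} {l : Fin n × Bool → Fˣ} (hσ : ∀ x, H.σ x = x)
  (h1 : H.IsIso D) (h2 : Ev Fr D l)
include hσ h1 h2

theorem cX {a b : Fin n × Bool} (hab : a.1 ≠ b.1) (t : F) : D * Fr.X a b t * D⁻¹ = Fr.X a b (l a * l b * t) := by
  rw [conj_X Fr h1 hab hab (h2 a) (h2 b), hσ, inv_mul_cancel_right₀ (Fr.η_ne b)]

theorem cZ (h3 : Tr Fr D) (a : Fin n × Bool) (p : Fr.Adm) :
    D * Fr.Z a p * D⁻¹ = Fr.Z a (WittFrame.Frame.Adm.smul (l a) p) := by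
  rw [conj_Z Fr h1 (h2 a) p p (h3 _ (Fr.ok_mem p.ok)) rfl, hσ]

end Conj

section Gen

variable {n : ℕ} {Fr : WittFrame.Frame H (Fin (n + 1))} {G0 : Subgroup (V ≃ₗ[F] V)}
  {W K0 : Type} [Group W] [Finite W] [Group K0] [Finite K0]
  {M : CoxeterMatrix (Fin (n + 1))} {cs : CoxeterSystem M W} {A : Fin (n + 1) → Fin (n + 1) → ℤ} {h : IsCartan M A} {p : ℕ}
  {φ : G0 →* K0} {nn : Fin (n + 1) → V ≃ₗ[F] V} {hnn : ∀ i, nn i ∈ G0} {X : (Fin (n + 1) → ℤ) → Subgroup K0}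
  {R : RGD cs h p (((Tor Fr G0).subgroupOf G0).map φ) (fun i => φ ⟨nn i, hnn i⟩) X}
  {sg : Fin (n + 1) → Fin (n + 1) × Bool → Fin (n + 1) × Bool}

theorem fg_gen (o : ODD.PW.Out R) (a : Act Fr nn sg) (hp : p.Prime) (hp2 : p ≠ 2)
    (htop : Bruhat.GG cs h (((Tor Fr G0).subgroupOf G0).map φ) X = ⊤)
    (hN : NoFix cs h (((Tor Fr G0).subgroupOf G0).map φ) X) (hA : Amb Fr G0) (hσ : ∀ x, H.σ x = x) (hε : H.ε = 1)
    (hφ : Function.Surjective φ) (hk : ∀ g, φ g = 1 → ∃ c : F, ∀ v, g.1 v = c • v)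
    (hG : ∀ D, H.IsIso D → ∀ g ∈ G0, D * g * D⁻¹ ∈ G0) (hn : 2 ≤ n)
    (hM : ∀ i j : Fin (n + 1), (i : ℕ) + 1 < j → (j : ℕ) + 1 < n + 1 → M i j = 2)
    (hs : ∀ i j : Fin (n + 1), (i : ℕ) + 1 = j →
      sg i (i, true) = (j, true) ∧ ∀ k, k ≠ i → k ≠ j → sg i (k, true) = (k, true))
    (rg : (Fin (n + 1) → ℤ) → Subgroup (V ≃ₗ[F] V)) (hX : ∀ x, X x = ((rg x).subgroupOf G0).map φ) (u : Fˣ) (c : ℤ)
    (hrg : ∀ D, H.IsIso D → (Ev Fr D fun z => u ^ ex c z) → Tr Fr D →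
      (∀ x, IsRoot cs h x → ∀ g ∈ rg x, D * g * D⁻¹ ∈ rg x) ∧ ∀ i, ∀ g ∈ rg (sr i), D * g * D⁻¹ = g * g) : FG K0 := by
  obtain ⟨D, h1, h2, h3⟩ := exists_diag (Fr := Fr) hσ hε (fun z => u ^ ex c z) fun z => by rw [od_ex, zpow_neg]
  obtain ⟨h4, h5⟩ := hrg D h1 h2 h3
  obtain ⟨d, hd⟩ := exists_desc φ hφ (((MulAut.conj D).toMonoidHom.comp G0.subtype).codRestrict G0 fun g => hG D h1 g g.2)
    (fun g => ⟨⟨_, hG _ h1.inv g g.2⟩, Subtype.ext (by simp [mul_assoc])⟩) fun g hg => hg ▸ congrArg φ (Subtype.ext (by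
      obtain ⟨c, hc⟩ := hk g hg
      ext v
      show D (g.1 (D⁻¹ v)) = g.1 v
      rw [hc, hc, map_smul, apply_inv]))
  replace hd : ∀ g (hg : g ∈ G0), d (φ ⟨g, hg⟩) = φ ⟨D * g * D⁻¹, hG D h1 g hg⟩ := fun g hg => hd ⟨g, hg⟩
  have hT : ∀ g (hg : g ∈ G0) ρ, Mono Fr g ρ → ∃ ht : g⁻¹ * D * g * D⁻¹ ∈ Tor Fr G0,
      (φ ⟨g, hg⟩)⁻¹ * d (φ ⟨g, hg⟩) = φ ⟨_, ht.1⟩ := fun g hg ρ hm =>
    ⟨⟨by simpa only [mul_assoc] using mul_mem (inv_mem hg) (hG D h1 g hg), ((h2.conj' hm).mul h2.inv).mono⟩, by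
      rw [hd, ← map_inv, ← map_mul]
      exact congrArg φ (Subtype.ext (by simp only [Subgroup.coe_mul, Subgroup.coe_inv, mul_assoc]))⟩
  obtain ⟨_, _, _, C⟩ := o.cor
  refine fg_of_diag R hp hp2 htop C.comm hN (d := d) ⟨?_, fun x hx => ?_, fun i => ?_, fun i f => ?_⟩ fun lam _ hl =>
    ⟨fun w hw => pow_two w ▸ C.pow_mem_self two_pos (o.sq lam hl) hw, fun w k hr hj => ?_⟩
  · rintro _ ⟨⟨t, ht0⟩, ht, rfl⟩
    obtain ⟨l, hl⟩ := exists_ev ht.2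
    rw [hd]
    exact congrArg φ (Subtype.ext (((h2.mul hl).mul h2.inv).ext hA hl (fun z => mul_inv_cancel_comm _ _) fun w hw => by
      rw [mul_apply', mul_apply', h3.inv w hw, h3 _ (hA.map_V0 ht0 ht.2 (ρ := id) (fun _ => rfl) hw)]))
  · rw [hX]
    rintro _ ⟨⟨g, hg0⟩, hg, rfl⟩
    rw [hd]
    exact Subgroup.mem_map_of_mem _ (h4 x hx.1 g hg)
  · obtain ⟨ht, e⟩ := hT _ (hnn i) _ (a.mono i)
    exact e ▸ mem_T ht
  · intro x hx hx'
    refine sq_of_eq f hx hx' ?_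
    rw [hX] at hx
    obtain ⟨⟨g, hg0⟩, hg, rfl⟩ := hx
    rw [hd, ← map_mul]
    exact congrArg φ (Subtype.ext (h5 i g hg))
  · obtain ⟨g, hg, ρ, rfl, h6, h7⟩ := exists_lift (R := R) a hr
    obtain ⟨ht, e⟩ := hT g hg _ h6
    rw [← mu_comm a C.comm hl hA hσ o.pn (o.sq lam hl) u (by omega) hM hs (od_ex c) (even_ex c) h2 h3 ⟨_, hr, hj⟩ hg hr h6 h7,
      mu_eq ht]
    exact congrArg lam (Subtype.ext e)

end Gen

attribute [local instance] finB finD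

open Cfsg.Agent.Nodes.WittU Cfsg.Agent.Nodes.WittInst Cfsg.Agent.TitsThree.SiegelGen Cfsg.Agent.TitsThree.WBridge
open Cfsg.Agent.LieClassical Cfsg.Agent.LieClassical.OrthCore Cfsg.Agent.LieClassical.OrthTrans
open Cfsg.Agent.LieClassical.OrthSimple Cfsg.Agent.LieClassical.OrthFinite Cfsg.Agent.LieClassical.OrthForms
open Cfsg.Agent.TitsThree.KSideO Cfsg.Agent.TitsThree.StdData

theorem conj_E (h2 : (2 : F) ≠ 0) (Q : QuadraticForm F V) (D : V ≃ₗ[F] V) (hD : (HO Q).IsIso D) (g : V ≃ₗ[F] V)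
    (hg : g ∈ E Q) : D * g * D⁻¹ ∈ E Q :=
  conj_mem_E (mem_O.2 fun v => mul_left_cancel₀ h2 (by rw [← polar_self', ← polar_self']; exact hD v v)) hg

theorem two_X {n : ℕ} {Fr : WittFrame.Frame H (Fin n)} (h2 : (2 : F) ≠ 0) {a b : Fin n × Bool} {c : ℤ}
    (h : ex c a + ex c b = 1) (t : F) :
    Fr.X a b ((Units.mk0 2 h2 ^ ex c a : Fˣ) * (Units.mk0 2 h2 ^ ex c b : Fˣ) * t) = Fr.X a b t * Fr.X a b t := by
  rw [← Units.val_mul, ← zpow_add, h, zpow_one, Units.val_mk0, two_mul, Fr.X_add]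

open Cfsg.Agent.Nodes.TypeC in
theorem fg_C {ι : Type} [Fintype ι] [DecidableEq ι] [Finite F] {Q : QuadraticForm F (ι → F)} {n : ℕ} (hn : 1 ≤ n)
    (W : WFrame (PO Q) (n + 2)) (hG : Good Q) {p0 : (toFrame W).Adm} (hp0 : p0.c ≠ 0) {p : ℕ} [Fact p.Prime] [CharP F p]
    (hp2 : p ≠ 2) (h2 : (2 : F) ≠ 0) [Finite (POmega F Q)]
    (o : ODD.PW.Out (rgdC (model W hG ⟨_, hp0⟩) (amb_O_of_two _ h2) p hp0)) : FG (POmega F Q) := by
  refine fg_gen o (actC hp0) Fact.out hp2 (topC _) (nofix_orth _ _ (amb_O_of_two _ h2) (by omega) h2 (fun _ => rfl) rfl)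
    (amb_O_of_two _ h2) (fun _ => rfl) rfl (toPOmega_surjective hG)
    (fun g hg => scalar_of_center hG (center_of_toPOmega hG hg)) (conj_E h2 Q) (by omega) (fun i j h1 h2 => ?_)
    (fun i j hij => ⟨?_, fun k h1 h2 => sg_of_ne h1 fun h => h2 (Fin.ext (h.trans hij))⟩) (WittRoot.rg _) (fun _ => rfl)
    (Units.mk0 2 h2) (n + 2) fun D h3 h4 h5 => ⟨fun x hx g hg => ?_, fun i g hg => ?_⟩
  · simp only [CoxeterMatrix.B, Matrix.of_apply, Fin.ext_iff]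
    split_ifs <;> omega
  · rw [sg_up (by omega)]
    exact Prod.ext (Fin.ext hij) rfl
  · obtain ⟨a, b, hab, e⟩ := exists_of_isRoot _ hx
    rw [WittRoot.rg_eq _ hab e] at hg ⊢
    rcases hab with hab | rfl
    · rw [WittRoot.PG_ne _ hab] at hg ⊢
      obtain ⟨q, rfl⟩ := hg
      exact ⟨_, cX (fun _ => rfl) h3 h4 hab q⟩
    · rw [WittRoot.PG_self] at hg ⊢
      obtain ⟨q, rfl⟩ := hg
      exact ⟨_, cZ (fun _ => rfl) h3 h4 h5 _ q⟩
  · rw [WittRGD.rg_sr] at hg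
    by_cases hi : (i : ℕ) + 1 < n + 2
    · rw [WittRoot.PG_ne _ (nx_ne hi)] at hg
      obtain ⟨q, rfl⟩ := hg
      rw [cX (fun _ => rfl) h3 h4 (nx_ne hi), two_X h2 (by simp [ex, nx, hi])]
    · rw [show nx i = (i, true) from dif_neg hi, WittRoot.PG_self] at hg
      obtain ⟨q, rfl⟩ := hg
      rw [cZ (fun _ => rfl) h3 h4 h5, ← WittFrame.Frame.Z_mul, show ex (n + 2) (i, true) = 1 by simp [ex]; omega, zpow_one]
      have h6 : q.c + q.c = _ := (congrArg (· + q.c) (one_mul q.c)).symm.trans q.herm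
      congr 1
      refine WittFrame.Frame.Adm.ext (two_smul _ _) ?_
      show (2 : F) * 2 * q.c = q.c + q.c - (1 : F)⁻¹ * _
      linear_combination h6

/-- **`PΩ_{2m+1}(q)`** -/
theorem fg_podd {S : Type} [Group S] [Finite S] (h : IsPOmegaOdd S) : FG S := by
  obtain ⟨F, _, _, m, hm, hF, he⟩ := h
  obtain ⟨n, rfl⟩ : ∃ n, m = n + 2 := ⟨m - 2, by omega⟩
  obtain ⟨p, _, _, hp2, h2⟩ := exists_char F hF
  replace he : Nonempty (S ≃* POmega F (quadFormOdd (n + 2) F)) := he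
  rw [← coe_oddForm] at he
  obtain ⟨e⟩ := he
  have := Finite.of_equiv _ e.toEquiv
  exact FG.congr e (fg_C (by omega) _ _ (hp_odd _) hp2 h2 (out_podd n p h2))

/-- **`PΩ⁻_{2m}(q)`** -/
theorem fg_minus {S : Type} [Group S] [Finite S] (h : ODD.MinusO S) : FG S := by
  obtain ⟨F, _, _, m, a, b, hF, hm, hab, he⟩ := h
  obtain ⟨n, rfl⟩ : ∃ n, m = n + 2 + 1 := ⟨m - 3, by omega⟩
  obtain ⟨p, _, _, hp2, h2⟩ := exists_char F hF
  replace he : Nonempty (S ≃* POmega F (quadFormMinus (n + 2) F a b)) := he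
  rw [← coe_minusForm] at he
  obtain ⟨e⟩ := he
  have := Finite.of_equiv _ e.toEquiv
  exact FG.congr e (fg_C (by omega) _ _ (hp_minus hab _) hp2 h2 (out_minus hab hF n p))

open Cfsg.Agent.Nodes.TypeD in
/-- **`PΩ⁺_{2m}(q)`** -/
theorem fg_plus {S : Type} [Group S] [Finite S] (h : ODD.PlusO S) : FG S := by
  obtain ⟨F, _, _, m, hF, hm, he⟩ := h
  obtain ⟨n, rfl⟩ : ∃ n, m = n + 3 := ⟨m - 3, by omega⟩
  obtain ⟨p, _, _, hp2, h2⟩ := exists_char F hF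
  replace he : Nonempty (S ≃* POmega F (quadFormPlus (n + 3) F)) := he
  rw [← coe_plusForm] at he
  obtain ⟨e⟩ := he
  have := Finite.of_equiv _ e.toEquiv
  refine FG.congr e (fg_gen (out_plus (F := F) n p) actD Fact.out hp2 (top_plus n) (nofix_plus n p h2) (amb_plus _) (fun _ => rfl) rfl
    (toPOmega_surjective _) (fun g hg => scalar_of_center (good_plus n) (center_of_toPOmega _ hg)) (conj_E h2 _) (by omega)
    (fun i j h1 h2 => ?_) (fun i j hij => ⟨?_, fun k h1 h2 => sg_of_ne (by omega) h1 fun h => h2 (Fin.ext (h.trans hij))⟩)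
    (WittRGDD.rg _) (fun _ => rfl) (Units.mk0 2 h2) (n + 2) fun D h3 h4 _ => ⟨fun x hx g hg => ?_, fun i g hg => ?_⟩)
  · rw [M_apply, if_neg (by omega), if_neg (by unfold TypeD.Adj; omega)]
  · rw [sg_up (by omega)]
    exact Prod.ext (Fin.ext hij) rfl
  · obtain ⟨a, b, hab, e⟩ := exists_of_isRoot _ hx
    rw [WittRGDD.rg_eq _ hab e] at hg ⊢
    obtain ⟨q, rfl⟩ := hg
    exact ⟨_, cX (fun _ => rfl) h3 h4 hab q⟩
  · rw [WittRGDD.rg_sr] at hg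
    obtain ⟨q, rfl⟩ := hg
    rw [cX (fun _ => rfl) h3 h4 (ok_nx i), two_X h2 (by
      by_cases hi : (i : ℕ) + 1 < n + 1 + 2
      · simp [ex, nx, hi]
      · simp [ex, nx, hi, pd]
        omega)]

end Cfsg.Agent.GAL.TO
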