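import Cfsg.Agent.ODD.PW.Rows
import Cfsg.Agent.GAL.Ex.Sig

/-!
# GAL, orthogonal groups: the value of `lam` at `g⁻¹ D g D⁻¹` (helper52)

* `exists_eps` : a quadratic character of the torus is given by signs `ε i` on the elements with eigenvalues `u ^ f z`;
* `four_dvd` : if a permutation reverses the signs, then `4 ∣ n`;
* `mu_comm` : the value is `1`;
* `exists_diag` : the diagonal isometries.
-/

set_option autoImplicit false
set_option linter.unusedSectionVars false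

namespace Cfsg.Agent.GAL.TO

open CoxeterSystem Cfsg.Agent.ChevalleyStructure.CoxeterGeom Cfsg.Agent.Tits.Roots Cfsg.Agent.Nodes.Reps
  Cfsg.Agent.Nodes.BNOf Cfsg.Agent.H684.OQ Cfsg.Agent.H381.OQ Cfsg.Agent.H69.OQ Cfsg.Agent.ODD.PS Cfsg.Agent.ODD.PW
open Cfsg.Agent.TitsThree Cfsg.Agent.TitsThree.Siegel Cfsg.Agent.TitsThree.WittFrame Cfsg.Agent.TitsThree.WittWeyl
open Cfsg.Agent.Nodes.WittRoot (Amb Mono)
open Cfsg.Agent.Nodes.WittRGD (Tor eq_or_ng)
open Cfsg.Agent.Nodes.TypeC (ng ng_ng ng_fst ng_snd)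

section Idx

variable {n : ℕ}

theorem four_dvd (ε : Fin n → ℤ) (hε : ∀ i, ε i = 1 ∨ ε i = -1) (π σ : Equiv.Perm (Fin n)) (hπ : ∀ i, ε (π i) = -ε i)
    (hσ : ∀ i j : Fin n, Even (i : ℕ) → (i : ℕ) + 1 = j → ε (σ i) = ε (σ j)) : 4 ∣ n := by
  have h0 : ∑ i, ε (σ i) = 0 := by
    have h1 := Equiv.sum_comp π ε
    simp only [hπ, Finset.sum_neg_distrib] at h1
    rw [Equiv.sum_comp σ ε]
    omega
  let f : ℕ → ℤ := fun i => if h : i < n then ε (σ ⟨i, h⟩) else 0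
  have key : ∀ m ≤ n, if Even m then 4 ∣ ∑ i ∈ Finset.range m, f i + m
      else 4 ∣ ∑ i ∈ Finset.range m, f i + m - f (m - 1) - 1 ∧ (f (m - 1) = 1 ∨ f (m - 1) = -1) := fun m => by
    induction m with
    | zero => simp
    | succ m ih =>
      intro hm
      have h1 := ih (by omega)
      have h2 : f m = 1 ∨ f m = -1 := by simp only [f, dif_pos (show m < n by omega)]; exact hε _
      rw [Finset.sum_range_succ, Nat.add_sub_cancel]
      by_cases h3 : Even m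
      · rw [if_pos h3] at h1
        rw [if_neg (by rwa [Nat.even_add_one, not_not])]
        exact ⟨by push_cast; omega, h2⟩
      · rw [if_neg h3] at h1
        rw [if_pos (Nat.even_add_one.2 h3)]
        rw [Nat.even_iff] at h3
        have h4 : f (m - 1) = f m := by
          simp only [f, dif_pos (show m < n by omega), dif_pos (show m - 1 < n by omega)]
          exact hσ _ _ (Nat.even_iff.2 (by simp only; omega)) (by simp only; omega)
        push_cast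
        omega
  have h1 := key n le_rfl
  rw [← Fin.sum_univ_eq_sum_range, Finset.sum_congr rfl fun (i : Fin n) _ => (dif_pos i.2 : f i = ε (σ i)), h0] at h1
  split_ifs at h1 with h2
  · omega
  · rw [Nat.even_iff] at h2
    omega

/-- signed permutations -/
def Sp (ρ : Equiv.Perm (Fin n × Bool)) : Prop := ∀ x, ρ (ng x) = ng (ρ x)

variable {ρ : Equiv.Perm (Fin n × Bool)}

theorem Sp.inv (h : Sp ρ) : Sp ρ⁻¹ := fun x => ρ.injective (by rw [h]; simp)

/-- the underlying permutation -/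
noncomputable def Sp.perm (h : Sp ρ) : Equiv.Perm (Fin n) :=
  Equiv.ofBijective (fun i => (ρ (i, true)).1) (Finite.injective_iff_bijective.1 fun i j e => by
    rcases eq_or_ng e with e | e
    · exact congrArg Prod.fst (ρ.injective e)
    · exact congrArg Prod.fst (ρ.injective (e.trans (h _).symm)))

theorem Sp.perm_fst (h : Sp ρ) (x : Fin n × Bool) : h.perm x.1 = (ρ x).1 := by
  rcases eq_or_ng (a := x) (b := (x.1, true)) rfl with e | e
  · rw [e]; rfl
  · rw [e, h]; rfl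

/-- odd functions -/
def Od (f : Fin n × Bool → ℤ) : Prop := ∀ z, f (ng z) = -f z

theorem Od.exists (h : Sp ρ) {f : Fin n × Bool → ℤ} (hf : Od f) :
    ∃ k : Fin n → ℤ, ∀ i, f (ρ (i, true)) = f (h.perm i, true) + 2 * k i := by
  have : ∀ i, ∃ k, f (ρ (i, true)) = f (h.perm i, true) + 2 * k := fun i => by
    rcases eq_or_ng (a := ρ (i, true)) (b := (h.perm i, true)) rfl with e | e
    · exact ⟨0, by rw [e, mul_zero, add_zero]⟩
    · exact ⟨-f (h.perm i, true), by rw [e, hf]; ring⟩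
  exact Classical.skolem.1 this

theorem Od.even (h : Sp ρ) {f : Fin n × Bool → ℤ} (hf : Od f) : Even (∑ i, f (ρ (i, true)) - ∑ i, f (i, true)) := by
  obtain ⟨k, hk⟩ := hf.exists h
  simp only [hk, Finset.sum_add_distrib, ← Finset.mul_sum, Equiv.sum_comp h.perm fun i => f (i, true)]
  exact ⟨∑ i, k i, by ring⟩

theorem Od.prod (h : Sp ρ) {f : Fin n × Bool → ℤ} (hf : Od f) {ε : Fin n → ℂˣ} (hε : ∀ i, ε i ^ (2 : ℤ) = 1) :
    ∏ i, ε i ^ f (ρ (i, true)) = ∏ i, ε (h.perm⁻¹ i) ^ f (i, true) := by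
  obtain ⟨k, hk⟩ := hf.exists h
  rw [← Equiv.prod_comp h.perm fun i => ε (h.perm⁻¹ i) ^ f (i, true)]
  simp only [hk, zpow_add, zpow_mul, hε, one_zpow, mul_one, Equiv.Perm.coe_inv, Equiv.symm_apply_apply]

theorem prod_e (x : Fin n → ℂˣ) (j : Fin n) : ∏ i, x i ^ e (j, true) (i, true) = x j := by
  rw [Finset.prod_eq_single j (fun i _ hi => by rw [e_ne hi, zpow_zero]) (fun h => absurd (Finset.mem_univ _) h),
    e_self, zpow_one]

theorem sum_e (j : Fin n) : ∑ i, e (j, true) (i, true) = 1 := by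
  rw [Finset.sum_eq_single j (fun i _ hi => e_ne hi) (fun h => absurd (Finset.mem_univ _) h), e_self]

theorem Od.sum {f : Fin n × Bool → ℤ} (hf : Od f) (z : Fin n × Bool) : ∑ i, e (i, true) z * f (i, true) = f z := by
  rw [Finset.sum_eq_single z.1 (fun i _ hi => by rw [e_ne hi.symm, zero_mul]) (fun h => absurd (Finset.mem_univ _) h)]
  rcases eq_or_ng (a := z) (b := (z.1, true)) rfl with h | h
  · rw [← h, e_self, one_mul]
  · conv_rhs => rw [h, hf]
    conv_lhs => rw [h, ng_fst, e_ng, e_self, neg_one_mul]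

end Idx

variable {F : Type} [Field F] {V : Type} [AddCommGroup V] [Module F V] {H : HForm F V} {n : ℕ}
  {Fr : WittFrame.Frame H (Fin n)} {G0 : Subgroup (V ≃ₗ[F] V)}

/-- the diagonal isometries -/
theorem exists_diag (hσ : ∀ x, H.σ x = x) (hε : H.ε = 1) (l : Fin n × Bool → Fˣ) (hl : ∀ z, l (ng z) = (l z)⁻¹) :
    ∃ D : V ≃ₗ[F] V, H.IsIso D ∧ Ev Fr D l ∧ Tr Fr D := by
  have hs : ∀ v w, H.h w v = H.h v w := fun v w => by rw [H.swap, hε, hσ, one_mul]
  have hb : ∀ z y, H.h (Fr.b z) (Fr.b y) = if z = ng y then 1 else 0 := fun z y => by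
    split_ifs with h
    · rw [h, show H.h (Fr.b (ng y)) (Fr.b y) = Fr.η y from Fr.hb_neg_self y, WittFrame.Frame.η, hε, ite_self]
    · exact Fr.hb_ne fun e => h (by rw [e]; exact (ng_ng z).symm)
  let B : V → V →ₗ[F] F := fun w => ⟨⟨fun v => H.h v w, fun a b => H.add_left a b w⟩, fun c v => H.smul_left c v w⟩
  let L : (Fin n × Bool → Fˣ) → V →ₗ[F] V := fun l =>
    LinearMap.id + ∑ z, ((l z : F) - 1) • (B (Fr.b (ng z))).smulRight (Fr.b z)
  have hL : ∀ l v, L l v = v + ∑ z, (((l z : F) - 1) * H.h v (Fr.b (ng z))) • Fr.b z := fun l v => by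
    simp [L, B, smul_smul]
  have h1 : ∀ l v w, H.h (L l v) w = H.h v w + ∑ z, ((l z : F) - 1) * H.h v (Fr.b (ng z)) * H.h (Fr.b z) w :=
    fun l v w => by
      show B w _ = _
      rw [hL, map_add, map_sum]
      simp only [map_smul, smul_eq_mul]
      rfl
  have h2 : ∀ l v y, H.h (L l v) (Fr.b y) = l (ng y) * H.h v (Fr.b y) := fun l v y => by
    simp only [h1, hb, mul_ite, mul_one, mul_zero, Finset.sum_ite_eq', Finset.mem_univ, if_true, ng_ng]
    ring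
  have h3 : ∀ l m : Fin n × Bool → Fˣ, (∀ z, l z * m z = 1) → (L l).comp (L m) = LinearMap.id := fun l m h => by
    ext v
    rw [LinearMap.comp_apply, hL l, hL m v, add_assoc, ← Finset.sum_add_distrib, LinearMap.id_apply, add_eq_left]
    refine Finset.sum_eq_zero fun z _ => ?_
    have h4 : (l z : F) * m z = 1 := by rw [← Units.val_mul, h, Units.val_one]
    rw [← hL, h2, ng_ng, ← add_smul, show ((m z : F) - 1) * H.h v (Fr.b (ng z)) + (l z - 1) * (m z * H.h v (Fr.b (ng z))) =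
      (l z * m z - 1) * H.h v (Fr.b (ng z)) by ring, h4, sub_self, zero_mul, zero_smul]
  refine ⟨LinearEquiv.ofLinearMap (L l) (L fun z => (l z)⁻¹) (h3 _ _ fun _ => mul_inv_cancel _)
    (h3 _ _ fun _ => inv_mul_cancel _), fun v w => ?_, fun z => ?_, fun w hw => ?_⟩
  · show H.h (L l v) (L l w) = _
    rw [h1, hs (L l w) v, h1, hs v w, add_assoc, add_eq_left,
      ← Equiv.sum_comp (⟨ng, ng, ng_ng, ng_ng⟩ : Equiv.Perm _), ← Finset.sum_add_distrib]
    refine Finset.sum_eq_zero fun z _ => ?_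
    rw [hs (L l w), h2, Equiv.coe_fn_mk, ng_ng, hl, hs v, Units.val_inv_eq_inv_val]
    have := (l z).ne_zero
    field_simp
    ring
  · show L l _ = _
    simp only [hL, hb, ng_ng, mul_ite, mul_one, mul_zero, ite_smul, zero_smul, Finset.sum_ite_eq, Finset.mem_univ, if_true]
    module
  · show L l _ = _
    simp only [hL, Fr.h0' _ hw, mul_zero, zero_smul, Finset.sum_const_zero, add_zero]

variable {W K0 : Type} [Group W] [Finite W] [Group K0] [Finite K0]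
  {M : CoxeterMatrix (Fin n)} {cs : CoxeterSystem M W} {A : Fin n → Fin n → ℤ} {h : IsCartan M A} {p : ℕ}
  {φ : G0 →* K0} {nn : Fin n → V ≃ₗ[F] V} {hnn : ∀ i, nn i ∈ G0} {X : (Fin n → ℤ) → Subgroup K0}
  {R : RGD cs h p (((Tor Fr G0).subgroupOf G0).map φ) (fun i => φ ⟨nn i, hnn i⟩) X}
  {sg : Fin n → Fin n × Bool → Fin n × Bool} {lam : ↥(((Tor Fr G0).subgroupOf G0).map φ) →* ℂˣ}

theorem exists_lift (a : Act Fr nn sg) {w : W} {k : K0} (hk : Rp cs R.nsys w k) :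
    ∃ (g : V ≃ₗ[F] V) (hg : g ∈ G0) (ρ : Equiv.Perm (Fin n × Bool)), k = φ ⟨g, hg⟩ ∧ Mono Fr g ρ ∧ Sp ρ := by
  have key : ∃ (g : V ≃ₗ[F] V) (hg : g ∈ G0) (ρ : Equiv.Perm (Fin n × Bool)),
      Rp cs R.nsys w (φ ⟨g, hg⟩) ∧ Mono Fr g ρ ∧ Sp ρ := by
    clear hk
    induction w using cs.simple_induction_left with
    | one => exact ⟨1, one_mem _, 1, by
        rw [show (⟨1, one_mem G0⟩ : G0) = 1 from rfl, map_one]; exact rp_one, Mono.one, fun _ => rfl⟩
    | mul_simple_left w i ih =>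
      obtain ⟨g, hg, ρ, h1, h2, h3⟩ := ih
      have h4 := (rp_simple cs R.nsys i).mul h1
      rw [← map_mul] at h4
      exact ⟨nn i * g, mul_mem (hnn i) hg, ⟨sg i, sg i, a.sq i, a.sq i⟩ * ρ, h4, (a.mono i).mul h2,
        fun x => (congrArg (sg i) (h3 x)).trans (a.ng i _)⟩
  obtain ⟨g, hg, ρ, h1, h2, h3⟩ := key
  obtain ⟨t, ht, e⟩ := h1.unique hk
  exact ⟨g * t, mul_mem hg t.2, ρ, by rw [← mul_inv_cancel_left (φ ⟨g, hg⟩) k, ← e, ← map_mul]; rfl,
    h2.mul (Subgroup.mem_subgroupOf.1 ht).2, h3⟩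

theorem tr_conj (hA : Amb Fr G0) {g t : V ≃ₗ[F] V} (hg : g ∈ G0) {ρ : Equiv.Perm (Fin n × Bool)} (hm : Mono Fr g ρ)
    (h : Tr Fr t) : Tr Fr (g⁻¹ * t * g) := fun w hw => by
  rw [mul_apply', mul_apply', h _ (hA.map_V0 hg hm ρ.apply_symm_apply hw), inv_apply_eq rfl]

variable (a : Act Fr nn sg)
  (hc : ∀ a ∈ ((Tor Fr G0).subgroupOf G0).map φ, ∀ b ∈ ((Tor Fr G0).subgroupOf G0).map φ, a * b = b * a)
  (hl : Odd (Wst R lam).index) (hA : Amb Fr G0) (hσ : ∀ x, H.σ x = x) (hP : ∀ i, Pn R (i, true))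
  (hq : ∀ t, lam t ^ 2 = 1) (u : Fˣ)
include a hc hl hA hσ hP hq

/-- the signs -/
theorem exists_eps (i0 : Fin n) : ∃ ε : Fin n → ℂˣ, (∀ i, ε i ^ (2 : ℤ) = 1) ∧ ∀ f, Od f → Even (∑ i, f (i, true)) →
    ∃ t ∈ Tor Fr G0, Ev Fr t (fun z => u ^ f z) ∧ Tr Fr t ∧ mu lam t = ∏ i, ε i ^ f (i, true) := by
  have hz : ∀ t ∈ Tor Fr G0, ∀ k : ℤ, mu lam (t ^ k) = mu lam t ^ k := fun t ht k => by
    rw [mu_eq ht, mu_eq (zpow_mem ht k), ← map_zpow]
    exact congrArg lam (Subtype.ext (map_zpow φ ⟨t, ht.1⟩ k))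
  have h1 : ∀ i, ∃ t ∈ Tor Fr G0, Ev Fr t (fun z => u ^ (e (i, true) z + e (i0, true) z)) ∧ Tr Fr t := fun i => by
    by_cases hi : i = i0
    · obtain ⟨d, h1, h2, h3, -⟩ := (hP i0).exists a hc hl hA hσ u
      exact ⟨d, h1, h2.congr fun z => by rw [hi, two_mul], h3⟩
    · exact ⟨_, hX_tor hA hi u, ev_hX hσ hi u, tr_hX hi _⟩
  choose t h1 h2 h3 using h1
  refine ⟨fun i => mu lam (t i), fun i => by simp only [mu_eq (h1 i), zpow_two, ← pow_two, hq], fun f hf ⟨k, hk⟩ => ?_⟩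
  have key : ∀ S : Finset (Fin n), ∃ d ∈ Tor Fr G0, Ev Fr d (fun z => u ^ ∑ i ∈ S, (e (i, true) z + e (i0, true) z) *
      f (i, true)) ∧ Tr Fr d ∧ mu lam d = ∏ i ∈ S, mu lam (t i) ^ f (i, true) := fun S => by
    induction S using Finset.induction_on with
    | empty => exact ⟨1, one_mem _, ev_one.congr fun _ => (zpow_zero _).symm, tr_one, mu_one⟩
    | insert i S hi ih =>
      obtain ⟨d, h4, h5, h6, h7⟩ := ih
      exact ⟨t i ^ f (i, true) * d, mul_mem (zpow_mem (h1 i) _) h4, (((h2 i).zpow _).mul h5).congr fun z => by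
        rw [Finset.sum_insert hi, ← zpow_mul, ← zpow_add], ((h3 i).zpow _).mul h6, by
        rw [mu_mul (zpow_mem (h1 i) _) h4, hz _ (h1 i), h7, Finset.prod_insert hi]⟩
  obtain ⟨d, h4, h5, h6, h7⟩ := key Finset.univ
  obtain ⟨d', h8, h9, h10, h11⟩ := (hP i0).exists a hc hl hA hσ u
  refine ⟨d * d' ^ (-k), mul_mem h4 (zpow_mem h8 _), (h5.mul (h9.zpow _)).congr fun z => ?_, h6.mul (h10.zpow _), by
    rw [mu_mul h4 (zpow_mem h8 _), hz _ h8, h11, one_zpow, mul_one, h7]⟩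
  simp only [add_mul, Finset.sum_add_distrib, hf.sum, ← Finset.mul_sum, hk, ← zpow_mul, ← zpow_add]
  congr 1
  ring

/-- **the value at the commutator with a diagonal element** -/
theorem mu_comm (hn : 3 ≤ n) (hM : ∀ i j : Fin n, (i : ℕ) + 1 < j → (j : ℕ) + 1 < n → M i j = 2)
    (hs : ∀ i j : Fin n, (i : ℕ) + 1 = j → sg i (i, true) = (j, true) ∧ ∀ k, k ≠ i → k ≠ j → sg i (k, true) = (k, true))
    {D : V ≃ₗ[F] V} {f : Fin n × Bool → ℤ} (hf : Od f) (h4 : 4 ∣ n → Even (∑ i, f (i, true)))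
    (hD : Ev Fr D fun z => u ^ f z) (hD' : Tr Fr D) {w : W} (hw : w ∈ Wst R lam) {g : V ≃ₗ[F] V} (hg : g ∈ G0)
    (hr : Rp cs R.nsys w (φ ⟨g, hg⟩)) {ρ : Equiv.Perm (Fin n × Bool)} (hm : Mono Fr g ρ) (hρ : Sp ρ) :
    mu lam (g⁻¹ * D * g * D⁻¹) = 1 := by
  obtain ⟨ε, hε, hE⟩ := exists_eps a hc hl hA hσ hP hq u ⟨0, by omega⟩
  have h1 : ∀ {w : W}, w ∈ Wst R lam → ∀ {g : V ≃ₗ[F] V} (hg : g ∈ G0), Rp cs R.nsys w (φ ⟨g, hg⟩) →
      ∀ {ρ : Equiv.Perm (Fin n × Bool)}, Mono Fr g ρ → ∀ (hρ : Sp ρ) (j k : Fin n),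
      ε (hρ.perm⁻¹ j) * ε (hρ.perm⁻¹ k) = ε j * ε k := fun {w} hw {g} hg hr {ρ} hm hρ j k => by
    have h2 : Od fun z => e (j, true) z + e (k, true) z := fun z => by simp only [e_ng, neg_add]
    have h3 : Even (∑ i, (e (j, true) (i, true) + e (k, true) (i, true))) := by
      rw [Finset.sum_add_distrib, sum_e, sum_e]
      exact ⟨1, rfl⟩
    obtain ⟨t, ht, h5, h6, h7⟩ := hE _ h2 h3
    obtain ⟨t', -, h8, h9, h10⟩ := hE (fun z => e (j, true) (ρ z) + e (k, true) (ρ z)) (fun z => by simp only [hρ z]; exact h2 _)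
      ((Int.even_sub.1 (h2.even hρ)).2 h3)
    have h11 : mu lam (g⁻¹ * t * g) = mu lam t := by
      rw [mu_eq ht, mu_eq (conj_tor hg hm ht), cj_of_mem R hc hw hr _ (mem_T ht) (conj_T' R hr (mem_T ht))]
      refine congrArg lam (Subtype.ext ?_)
      show φ (⟨g, hg⟩⁻¹ * ⟨t, ht.1⟩ * ⟨g, hg⟩) = _
      rw [map_mul, map_mul, map_inv]
    rw [(h5.conj' hm).ext hA h8 (fun _ => rfl) fun v hv => (tr_conj hA hg hm h6 v hv).trans (h9 v hv).symm, h10, h7,
      h2.prod hρ hε] at h11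
    simpa only [zpow_add, Finset.prod_mul_distrib, prod_e] using h11
  obtain ⟨t, -, h5, h6, h7⟩ := hE (fun z => f (ρ z) - f z) (fun z => by simp only [hρ z, hf _]; ring)
    (by rw [Finset.sum_sub_distrib]; exact hf.even hρ)
  rw [((hD.conj' hm).mul hD.inv).ext hA h5 (fun z => (zpow_sub _ _ _).symm)
    fun v hv => ((tr_conj hA hg hm hD').mul hD'.inv v hv).trans (h6 v hv).symm, h7]
  have hε' : ∀ i, ε i * ε i = 1 := fun i => (zpow_two _).symm.trans (hε i)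
  set δ := ε (hρ.perm⁻¹ ⟨0, by omega⟩) * ε ⟨0, by omega⟩
  have h8 : ∀ j, ε (hρ.perm⁻¹ j) = δ * ε j := fun j => by
    rw [← mul_one (ε (hρ.perm⁻¹ j)), ← hε' (hρ.perm⁻¹ ⟨0, by omega⟩), ← mul_assoc, h1 hw hg hr hm hρ, mul_assoc,
      mul_comm, mul_comm (ε _)]
  simp only [zpow_sub, Finset.prod_mul_distrib, hf.prod hρ hε, h8, mul_zpow, Finset.prod_inv_distrib,
    mul_inv_cancel_right]
  have h9 : ∀ S : Finset (Fin n), ∏ i ∈ S, δ ^ f (i, true) = δ ^ ∑ i ∈ S, f (i, true) := fun S => by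
    induction S using Finset.induction_on with
    | empty => rfl
    | insert i S hi ih => rw [Finset.prod_insert hi, Finset.sum_insert hi, ih, zpow_add]
  have h10 : ∀ x : ℂˣ, x * x = 1 → x = 1 ∨ x = -1 := fun x hx => by
    simpa only [Units.ext_iff, Units.val_mul, Units.val_one, Units.val_neg, mul_self_eq_one_iff] using hx
  have h11 : (-1 : ℂˣ) ≠ 1 := by simp [Units.ext_iff, neg_eq_iff_add_eq_zero]
  rw [h9]
  rcases h10 δ (by rw [mul_mul_mul_comm, hε', hε', mul_one]) with h12 | h12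
  · rw [h12, one_zpow]
  obtain ⟨v, hv⟩ := Ex.exists_conj_mem hl {s | ∃ i : Fin n, Even (i : ℕ) ∧ (i : ℕ) + 1 < n ∧ s = cs.simple i} (by
    have h13 : ∀ i j, M i j = 2 → cs.simple i * cs.simple j = cs.simple j * cs.simple i := fun i j hij => by
      have h3 := cs.simple_mul_simple_pow i j
      rw [hij, pow_two] at h3
      rw [eq_inv_of_mul_eq_one_left h3, mul_inv_rev, cs.inv_simple, cs.inv_simple]
    rintro _ ⟨i, ⟨r, h1⟩, h2, rfl⟩ _ ⟨j, ⟨s, h3⟩, h4, rfl⟩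
    rcases lt_trichotomy r s with h5 | h5 | h5
    · exact h13 i j (hM i j (by omega) h4)
    · rw [show i = j by omega]
    · exact (h13 j i (hM j i (by omega) h2)).symm) (by
    rintro _ ⟨i, -, -, rfl⟩
    exact cs.simple_mul_simple_self i)
  obtain ⟨k, hk⟩ := exists_rp cs R.nsys v
  obtain ⟨k, hk0, τ, rfl, h13, h14⟩ := exists_lift (R := R) a hk
  rw [h12, (h4 (four_dvd (fun i => if ε i = 1 then 1 else -1) (fun i => by split_ifs <;> simp) hρ.perm⁻¹ h14.perm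
    (fun i => ?_) fun i j hi hij => ?_)).neg_one_zpow]
  · rw [h8, h12]
    rcases h10 _ (hε' i) with h15 | h15 <;> simp [h15, h11]
  · have h15 := (hk.mul (rp_simple cs R.nsys i)).mul hk.inv
    rw [← map_inv, ← map_mul, ← map_mul] at h15
    obtain ⟨m, h16, h17⟩ : ∃ m : Fin n, m ≠ i ∧ m ≠ j := by
      by_cases h : (i : ℕ) = 0
      · exact ⟨⟨2, by omega⟩, by simp [Fin.ext_iff]; omega, by simp [Fin.ext_iff]; omega⟩
      · exact ⟨⟨0, by omega⟩, by simp [Fin.ext_iff]; omega, by simp [Fin.ext_iff]; omega⟩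
    have h18 : Sp (τ * ⟨sg i, sg i, a.sq i, a.sq i⟩ * τ⁻¹) := fun x => by
      simp only [Equiv.Perm.mul_apply, Equiv.coe_fn_mk, h14.inv x, a.ng, h14 _]
    have h19 : ∀ x y, sg i (x, true) = (y, true) → h18.perm⁻¹ (h14.perm y) = h14.perm x := fun x y e => by
      rw [Equiv.Perm.inv_eq_iff_eq]
      exact ((h18.perm_fst (τ (x, true))).trans (by simp [e]; rfl)).symm
    have h20 := h1 (hv _ ⟨i, hi, by omega, rfl⟩) (mul_mem (mul_mem hk0 (hnn i)) (inv_mem hk0)) h15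
      ((h13.mul (a.mono i)).mul (h13.inv τ.apply_symm_apply)) h18 (h14.perm j) (h14.perm m)
    rw [h19 _ _ (hs i j hij).1, h19 _ _ ((hs i j hij).2 m h16 h17), mul_left_inj] at h20
    rw [h20]

end Cfsg.Agent.GAL.TO
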